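import Mathlib

open Polynomial

universe u

namespace Groth.Agent.LogDerLib

variable {R : Type u} [CommRing R] [Algebra ℂ R] {d r : ℕ} {θ : Fin r → R}
  (hθ : ∀ i k, i ≠ k → IsUnit (θ i - θ k))
  {Θ : R[X]} (hΘ : Θ = ∏ i, (X - Polynomial.C (θ i)))
  {D₀ : (Fin d → R[X]) →+ (Fin d → R[X])}
  (hD₀ : ∀ (p : R[X]) (v : Fin d → R[X]),
      D₀ (p • v) = (Θ * Polynomial.derivative p) • v + p • D₀ v)
  {D : (Fin d → Localization.Away Θ) →+ (Fin d → Localization.Away Θ)}
  (hD : ∀ (p : R[X]) (w : Fin d → Localization.Away Θ),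
      D (p • w) = (Θ * Polynomial.derivative p) • w + p • D w)
  (hDD₀ : ∀ v : Fin d → R[X],
      D (fun j => algebraMap R[X] (Localization.Away Θ) (v j)) =
        fun j => algebraMap R[X] (Localization.Away Θ) (D₀ v j))
  {Res : Fin r → ((Fin d → R) →ₗ[R] (Fin d → R))}
  (hRes : ∀ (i : Fin r) (m : Fin d → R) (j : Fin d),
      (D₀ (fun j => Polynomial.C (m j)) j).eval (θ i) =
        (∏ k ∈ Finset.univ.erase i, (θ i - θ k)) * Res i m j)
  (hχ : ∀ i : Fin r, ∃ χ : ℂ[X], (Res i).charpoly = χ.map (algebraMap ℂ R) ∧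
      ∀ n : ℤ, n ≠ 0 → χ.eval (n : ℂ) ≠ 0)

/-- `Θ'(θ i)` -/
noncomputable def c (θ : Fin r → R) (i : Fin r) : R := ∏ k ∈ Finset.univ.erase i, (θ i - θ k)

include hθ in
theorem isUnit_c (i : Fin r) : IsUnit (c θ i) :=
  IsUnit.prod_iff.2 fun _ hk => hθ i _ (Finset.ne_of_mem_erase hk).symm

include hΘ in
theorem eval_derivative (i : Fin r) : (derivative Θ).eval (θ i) = c θ i := by
  rw [hΘ, derivative_prod_finset, eval_finsetSum, Finset.sum_eq_single i]
  · simp [c, eval_prod]
  · intro k _ hk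
    rw [eval_mul, eval_prod, Finset.prod_eq_zero (Finset.mem_erase.2 ⟨hk.symm, Finset.mem_univ i⟩) (by simp), zero_mul]
  · simp

include hΘ hD₀ hRes in
theorem eval_D₀ (v : Fin d → R[X]) (i : Fin r) (j : Fin d) :
    (D₀ v j).eval (θ i) = c θ i * Res i (fun j => (v j).eval (θ i)) j := by
  have h : ∀ j, ∃ w, v j = C ((v j).eval (θ i)) + (X - C (θ i)) * w := fun j => by
    obtain ⟨w, hw⟩ := X_sub_C_dvd_sub_C_eval (a := θ i) (p := v j)
    exact ⟨w, by rw [← hw]; ring⟩
  choose w hw using h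
  have hv : v = (fun j => C ((v j).eval (θ i))) + (X - C (θ i)) • w := by
    funext j; simp only [Pi.add_apply, Pi.smul_apply, smul_eq_mul]; exact hw j
  have hΘi : Θ.eval (θ i) = 0 := by
    rw [hΘ, eval_prod, Finset.prod_eq_zero (Finset.mem_univ i) (by simp)]
  conv_lhs => rw [hv, map_add, hD₀]
  simp only [Pi.add_apply, Pi.smul_apply, smul_eq_mul, eval_add, eval_mul, hΘi, eval_sub, eval_X, eval_C,
    sub_self, zero_mul, add_zero]
  exact hRes i _ j

include hχ in
theorem bijective_sub (n : ℕ) (hn : n ≠ 0) (i : Fin r) :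
    Function.Bijective (Res i - (n : R) • LinearMap.id : (Fin d → R) →ₗ[R] (Fin d → R)) := by
  obtain ⟨χ, hc, hne⟩ := hχ i
  have hu : IsUnit ((Res i).charpoly.eval (n : R)) := by
    rw [hc, ← map_natCast (algebraMap ℂ R), eval_map_algebraMap, aeval_algebraMap_apply]
    refine IsUnit.map _ (IsUnit.mk0 _ ?_)
    simpa using hne (n : ℤ) (by exact_mod_cast hn)
  obtain ⟨q, hq⟩ := X_sub_C_dvd_sub_C_eval (a := (n : R)) (p := (Res i).charpoly)
  have h0 := congrArg (aeval (Res i)) hq
  have h1 := congrArg (aeval (Res i)) (hq.trans (mul_comm _ _))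
  simp only [map_sub, map_mul, LinearMap.aeval_self_charpoly, zero_sub, aeval_X, aeval_C] at h0 h1
  obtain ⟨a, ha⟩ := hu
  have e : (algebraMap R (Module.End R (Fin d → R))) (n : R) = (n : R) • LinearMap.id := by
    rw [Algebra.algebraMap_eq_smul_one]; rfl
  rw [← ha] at h0 h1
  rw [e] at h0 h1
  refine ⟨fun x y hxy => ?_, fun y => ⟨aeval (Res i) q (-((a⁻¹ : Rˣ) : R) • y), ?_⟩⟩
  · have := congrArg (aeval (Res i) q) hxy
    have hx := LinearMap.congr_fun h1 x
    have hy := LinearMap.congr_fun h1 y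
    simp only [LinearMap.neg_apply, Module.algebraMap_end_apply, Module.End.mul_apply] at hx hy
    rw [← hx, ← hy, neg_inj] at this
    exact a.isUnit.smul_left_cancel.1 this
  · have hy := LinearMap.congr_fun h0 (-((a⁻¹ : Rˣ) : R) • y)
    simp only [LinearMap.neg_apply, Module.algebraMap_end_apply, Module.End.mul_apply] at hy
    rw [← hy, smul_smul, mul_neg, Units.mul_inv, neg_smul, neg_neg, one_smul]

include hθ hΘ in
theorem dvd_of_eval_eq_zero (p : R[X]) (h : ∀ i, p.eval (θ i) = 0) : Θ ∣ p := by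
  rw [hΘ]
  refine Finset.prod_dvd_of_coprime ?_ fun i _ => (dvd_iff_isRoot).2 (h i)
  intro i _ k _ hik
  exact isCoprime_X_sub_C_of_isUnit_sub (hθ i k hik)

include hθ in
theorem exists_eval_eq (a : Fin r → R) : ∃ p : R[X], ∀ i, p.eval (θ i) = a i := by
  refine ⟨∑ i, C (a i * (isUnit_c hθ i).unit⁻¹.val) * ∏ k ∈ Finset.univ.erase i, (X - C (θ k)), fun i => ?_⟩
  rw [eval_finsetSum, Finset.sum_eq_single i]
  · simp only [eval_mul, eval_C, eval_prod, eval_sub, eval_X]
    rw [mul_assoc]; exact (congrArg (a i * ·) ((isUnit_c hθ i).val_inv_mul)).trans (mul_one _)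
  · intro k _ hk
    rw [eval_mul, eval_prod, Finset.prod_eq_zero (Finset.mem_erase.2 ⟨hk.symm, Finset.mem_univ i⟩) (by simp), mul_zero]
  · simp

/-- The coordinatewise map `R[X]^d → (R[X][1/Θ])^d`. -/
noncomputable def al (Θ : R[X]) (v : Fin d → R[X]) : Fin d → Localization.Away Θ :=
  fun j => algebraMap R[X] (Localization.Away Θ) (v j)

theorem al_add (v w : Fin d → R[X]) : al Θ (v + w) = al Θ v + al Θ w := by
  funext j; simp [al]

theorem al_smul (p : R[X]) (v : Fin d → R[X]) : al Θ (p • v) = p • al Θ v := by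
  funext j; simp [al, Algebra.smul_def]

theorem smul_pow_cancel (n : ℕ) {x y : Fin d → Localization.Away Θ} (h : Θ ^ n • x = Θ ^ n • y) : x = y := by
  funext j
  have := congrFun h j
  simp only [Pi.smul_apply, Algebra.smul_def] at this
  exact ((IsLocalization.map_units (Localization.Away Θ) (⟨Θ ^ n, n, rfl⟩ : Submonoid.powers Θ))).mul_left_cancel this

theorem exists_al (w : Fin d → Localization.Away Θ) : ∃ (n : ℕ) (v : Fin d → R[X]), Θ ^ n • w = al Θ v := by
  obtain ⟨⟨_, n, rfl⟩, hb⟩ := IsLocalization.exist_integer_multiples_of_finite (Submonoid.powers Θ) w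
  choose v hv using hb
  exact ⟨n, v, funext fun j => (hv j).symm⟩

include hD hDD₀ in
theorem D_div (n : ℕ) (f : Fin d → Localization.Away Θ) (v : Fin d → R[X]) (h : Θ ^ n • f = al Θ v) :
    al Θ (D₀ v) = al Θ (((n : R[X]) * derivative Θ) • v) + Θ ^ n • D f := by
  have h1 : al Θ (D₀ v) = D (al Θ v) := (hDD₀ v).symm
  rw [h1, ← h, hD, al_smul, ← h, smul_smul, derivative_pow]
  congr 2
  rcases n with _ | m
  · simp
  · simp only [Nat.add_sub_cancel, map_natCast, pow_succ]; ring

include hθ hΘ hD₀ hD hDD₀ hRes hχ in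
theorem mem_of_D_mem [IsDomain R] (f : Fin d → Localization.Away Θ)
    (hf : ∃ v : Fin d → R[X], D f = fun j => algebraMap R[X] (Localization.Away Θ) (v j)) :
    ∃ v : Fin d → R[X], f = fun j => algebraMap R[X] (Localization.Away Θ) (v j) := by
  obtain ⟨u, hu⟩ := hf
  obtain ⟨n, v, hv⟩ := exists_al f
  induction n generalizing v with
  | zero => exact ⟨v, by rw [pow_zero, one_smul] at hv; exact hv⟩
  | succ n ih =>
    have hinj : Function.Injective (algebraMap R[X] (Localization.Away Θ)) :=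
      IsLocalization.injective _ (powers_le_nonZeroDivisors_of_noZeroDivisors (show Θ ≠ 0 by
        rw [hΘ]; exact Finset.prod_ne_zero_iff.2 fun i _ => X_sub_C_ne_zero _))
    have h1 := D_div hD hDD₀ (n + 1) f v hv
    rw [hu] at h1
    change al Θ _ = al Θ _ + Θ ^ (n + 1) • al Θ u at h1
    rw [← al_smul, ← al_add] at h1
    have h2 : ∀ i, (fun j => (v j).eval (θ i)) = (0 : Fin d → R) := by
      intro i
      apply (bijective_sub hχ (n + 1) (Nat.succ_ne_zero _) i).1
      rw [map_zero]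
      funext j
      have h3 := congrArg (fun p => eval (θ i) p) (hinj (congrFun h1 j))
      have hΘi : Θ.eval (θ i) = 0 := by
        rw [hΘ, eval_prod, Finset.prod_eq_zero (Finset.mem_univ i) (by simp)]
      simp only [Pi.add_apply, Pi.smul_apply, smul_eq_mul, eval_add, eval_mul, eval_pow, hΘi,
        eval_D₀ hΘ hD₀ hRes, eval_derivative hΘ, eval_natCast, zero_pow (Nat.succ_ne_zero n), zero_mul, add_zero] at h3
      apply (isUnit_c hθ i).mul_left_cancel
      simp only [LinearMap.sub_apply, LinearMap.smul_apply, LinearMap.id_coe, id_eq, Pi.sub_apply, Pi.smul_apply,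
        smul_eq_mul, Pi.zero_apply, mul_zero]
      linear_combination h3
    choose v' hv' using fun j => dvd_of_eval_eq_zero hθ hΘ (v j) fun i => congrFun (h2 i) j
    refine ih v' (smul_pow_cancel 1 ?_)
    rw [smul_smul, ← pow_add, add_comm 1 n, hv, ← al_smul, pow_one]
    exact congrArg (al Θ) (funext hv')

include hθ hΘ hD₀ hD hDD₀ hRes hχ in
theorem exists_eq_D_add (w : Fin d → Localization.Away Θ) :
    ∃ (w' : Fin d → Localization.Away Θ) (v : Fin d → R[X]),
      w = D w' + fun j => algebraMap R[X] (Localization.Away Θ) (v j) := by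
  obtain ⟨n, v, hv⟩ := exists_al w
  induction n generalizing v w with
  | zero => exact ⟨0, v, by rw [map_zero, zero_add]; rw [pow_zero, one_smul] at hv; exact hv⟩
  | succ n ih =>
    have hsol : ∀ i, ∃ a : Fin d → R, (Res i - ((n + 1 : ℕ) : R) • LinearMap.id : (Fin d → R) →ₗ[R] (Fin d → R)) a =
        fun j => (isUnit_c hθ i).unit⁻¹.val * (v j).eval (θ i) :=
      fun i => (bijective_sub hχ (n + 1) (Nat.succ_ne_zero _) i).2 _
    choose a ha using hsol
    choose p hp using fun j => exists_eval_eq hθ fun i => a i j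
    obtain ⟨t, ht⟩ : ∃ t : Localization.Away Θ, algebraMap R[X] (Localization.Away Θ) (Θ ^ (n + 1)) * t = 1 :=
      (IsLocalization.map_units (Localization.Away Θ) (⟨Θ ^ (n + 1), n + 1, rfl⟩ : Submonoid.powers Θ)).exists_right_inv
    let f : Fin d → Localization.Away Θ := fun j => t * al Θ p j
    have hf : Θ ^ (n + 1) • f = al Θ p := funext fun j => by
      simp only [f, Pi.smul_apply, Algebra.smul_def]; rw [← mul_assoc, ht, one_mul]
    have h1 := D_div hD hDD₀ (n + 1) f p hf
    have hd : ∀ j, Θ ∣ v j + (((n + 1 : ℕ) : R[X]) * derivative Θ) * p j - D₀ p j := by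
      intro j
      refine dvd_of_eval_eq_zero hθ hΘ _ fun i => ?_
      have h2 := congrFun (ha i) j
      simp only [LinearMap.sub_apply, LinearMap.smul_apply, LinearMap.id_coe, id_eq, Pi.sub_apply, Pi.smul_apply,
        smul_eq_mul] at h2
      have h3 : c θ i * (isUnit_c hθ i).unit⁻¹.val = 1 := (isUnit_c hθ i).mul_val_inv
      simp only [eval_sub, eval_add, eval_mul, eval_D₀ hΘ hD₀ hRes, eval_derivative hΘ, eval_natCast, hp]
      linear_combination (-(c θ i)) * h2 - (v j).eval (θ i) * h3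
    choose v' hv' using hd
    have hrest : Θ ^ n • (w - D f) = al Θ v' := by
      apply smul_pow_cancel 1
      rw [smul_smul, ← pow_add, add_comm 1 n, smul_sub, hv, pow_one, ← al_smul]
      rw [show Θ • v' = v + (((n + 1 : ℕ) : R[X]) * derivative Θ) • p - D₀ p from funext fun j => (hv' j).symm]
      funext j
      have h4 := congrFun h1 j
      simp only [al, Pi.add_apply, Pi.sub_apply, Pi.smul_apply, map_add, map_sub] at h4 ⊢
      linear_combination h4
    obtain ⟨w'', u, hu⟩ := ih _ v' hrest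
    exact ⟨w'' + f, u, by rw [map_add, add_right_comm, ← hu, sub_add_cancel]⟩

end Groth.Agent.LogDerLib
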